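import Groth.Agent.Hensel.Pair
import Groth.Prelude.Def_EssEt
import Mathlib

/-!
# Essentially étale local algebras: rigidity, lifting, amalgamation
-/

noncomputable section

namespace Groth.Agent.EtAlg7

universe u

open IsLocalRing TensorProduct

variable {A : Type u} [CommRing A] [IsLocalRing A]

theorem exists_presentation {A' : Type u} [CommRing A'] [Algebra A A']
    (h : EGA4loc.IsEssentiallyEtale A A') :
    ∃ (C : Type u) (_ : CommRing C) (_ : Algebra A C) (q : Ideal C) (_ : q.IsPrime)
      (_ : Algebra C A') (_ : IsScalarTower A C A'),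
      Algebra.Etale A C ∧ q.comap (algebraMap A C) = maximalIdeal A ∧ IsLocalization.AtPrime A' q := by
  obtain ⟨C, _, _, q, _, hC, hq, ⟨e⟩⟩ := h
  let : Algebra C A' := (e.symm.toRingHom.comp (algebraMap C (Localization.AtPrime q))).toAlgebra
  have hsymm : ∀ c, algebraMap C A' c = e.symm (algebraMap C (Localization.AtPrime q) c) := fun c => rfl
  have : IsScalarTower A C A' := .of_algebraMap_eq fun a => by
    rw [hsymm, ← IsScalarTower.algebraMap_apply A C (Localization.AtPrime q), AlgEquiv.commutes]
  refine ⟨C, inferInstance, inferInstance, q, inferInstance, inferInstance, inferInstance, hC, hq, ?_⟩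
  exact IsLocalization.isLocalization_of_algEquiv q.primeCompl
    (AlgEquiv.ofRingEquiv (f := e.symm.toRingEquiv) fun c => rfl :
      Localization.AtPrime q ≃ₐ[C] A')

section

variable {A' : Type u} [CommRing A'] [Algebra A A'] (h : EGA4loc.IsEssentiallyEtale A A')

include h in
theorem formallyUnramified : Algebra.FormallyUnramified A A' := by
  obtain ⟨C, _, _, q, _, _, _, hC, -, hl⟩ := exists_presentation h
  have := Algebra.FormallyUnramified.of_isLocalization (Rₘ := A') q.primeCompl
  exact Algebra.FormallyUnramified.comp A C A'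

include h in
theorem essFiniteType : Algebra.EssFiniteType A A' := by
  obtain ⟨C, _, _, q, _, _, _, hC, -, hl⟩ := exists_presentation h
  have := Algebra.EssFiniteType.of_isLocalization A' q.primeCompl
  exact Algebra.EssFiniteType.comp A C A'

variable [IsLocalRing A'] [IsLocalHom (algebraMap A A')]

include h in
theorem map_maximalIdeal : (maximalIdeal A).map (algebraMap A A') = maximalIdeal A' := by
  have := formallyUnramified h
  have := essFiniteType h
  exact Algebra.FormallyUnramified.map_maximalIdeal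

variable {T : Type u} [CommRing T] [IsLocalRing T] [Algebra A T]

include h in
theorem algHom_ext_residue (ψ ψ' : A' →ₐ[A] T)
    (hψ : ∀ x, residue T (ψ x) = residue T (ψ' x)) : ψ = ψ' := by
  have := formallyUnramified h
  have := essFiniteType h
  refine Hensel.algHom_ext_of_le_jacobson (J := maximalIdeal T)
    (IsLocalRing.jacobson_eq_maximalIdeal ⊥ bot_ne_top).ge ψ ψ' fun s => ?_
  exact Ideal.Quotient.eq.mp (hψ s)

include h in
theorem isLocalHom_algHom [IsLocalHom (algebraMap A T)] (ψ : A' →ₐ[A] T) : IsLocalHom ψ.toRingHom := by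
  refine ((local_hom_TFAE ψ.toRingHom).out 0 2).mpr ?_
  rw [← map_maximalIdeal h, Ideal.map_map, AlgHom.toRingHom_eq_coe, AlgHom.comp_algebraMap]
  exact ((local_hom_TFAE (algebraMap A T)).out 0 2 rfl rfl).mp (inferInstanceAs (IsLocalHom (algebraMap A T)))

include h in
theorem residue_apply_of_bijective [IsLocalHom (algebraMap A T)]
    (hb : Function.Bijective (ResidueField.map (algebraMap A A'))) (ψ : A' →ₐ[A] T) (x : A') :
    ∃ a : A, residue A' x = residue A' (algebraMap A A' a) ∧ residue T (ψ x) = residue T (algebraMap A T a) := by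
  obtain ⟨r, hr⟩ := hb.2 (residue A' x)
  obtain ⟨a, rfl⟩ := residue_surjective r
  rw [ResidueField.map_residue] at hr
  refine ⟨a, hr.symm, ?_⟩
  have hm : x - algebraMap A A' a ∈ maximalIdeal A' := by
    rw [← residue_eq_zero_iff, map_sub, hr, sub_self]
  have := isLocalHom_algHom h ψ
  have hle : (maximalIdeal A').map ψ.toRingHom ≤ maximalIdeal T :=
    ((local_hom_TFAE ψ.toRingHom).out 0 2).mp this
  have hT := hle (Ideal.mem_map_of_mem ψ.toRingHom hm)
  rw [← residue_eq_zero_iff, AlgHom.toRingHom_eq_coe, RingHom.coe_coe, map_sub, map_sub,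
    AlgHom.commutes, sub_eq_zero] at hT
  exact hT

include h in
theorem subsingleton_algHom [IsLocalHom (algebraMap A T)]
    (hb : Function.Bijective (ResidueField.map (algebraMap A A'))) : Subsingleton (A' →ₐ[A] T) := by
  refine ⟨fun ψ ψ' => algHom_ext_residue h ψ ψ' fun x => ?_⟩
  obtain ⟨a, ha, ha'⟩ := residue_apply_of_bijective h hb ψ x
  obtain ⟨b, hb', hb''⟩ := residue_apply_of_bijective h hb ψ' x
  have hab : residue A a = residue A b := hb.1 (by
    rw [ResidueField.map_residue, ResidueField.map_residue, ← ha, hb'])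
  rw [ha', hb'']
  have := congr(ResidueField.map (algebraMap A T) $hab)
  rwa [ResidueField.map_residue, ResidueField.map_residue] at this

include h in
theorem existsUnique_algHom {B : Type u} [CommRing B] [HenselianLocalRing B] [Algebra A B]
    (α : ResidueField A' →+* ResidueField B)
    (hα : ∀ a : A, α (residue A' (algebraMap A A' a)) = residue B (algebraMap A B a)) :
    ∃! ψ : A' →ₐ[A] B, ∀ x, residue B (ψ x) = α (residue A' x) := by
  obtain ⟨C, _, _, q, _, _, _, hC, -, hl⟩ := exists_presentation h
  let σ : C →ₐ[A] B ⧸ maximalIdeal B :=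
    AlgHom.mk (α.comp ((residue A').comp (algebraMap C A'))) (fun a => by
      show α (residue A' (algebraMap C A' (algebraMap A C a))) = residue B (algebraMap A B a)
      rw [← IsScalarTower.algebraMap_apply, hα])
  obtain ⟨f, hf, -⟩ := Hensel.existsUnique_etale_lift_of_algebra (maximalIdeal B) σ
  have hf' : ∀ c, residue B (f c) = α (residue A' (algebraMap C A' c)) := fun c => congr($hf c)
  let ψ : A' →ₐ[A] B := IsLocalization.liftAlgHom (M := q.primeCompl) (f := f) fun c => by
    by_contra hu
    have h0 := (residue_eq_zero_iff (f c)).mpr hu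
    rw [hf', map_eq_zero, residue_eq_zero_iff] at h0
    exact h0 (IsLocalization.map_units A' c)
  have hψ : ∀ x, residue B (ψ x) = α (residue A' x) := by
    have : (residue B).comp ψ.toRingHom = α.comp (residue A') :=
      IsLocalization.ringHom_ext q.primeCompl (RingHom.ext fun c => by
        simp only [RingHom.comp_apply, AlgHom.toRingHom_eq_coe, RingHom.coe_coe, ← hf' c]
        congr 1
        exact IsLocalization.lift_eq _ c)
    exact fun x => congr($this x)
  exact ⟨ψ, hψ, fun ψ' hψ' => algHom_ext_residue h ψ' ψ fun x => (hψ' x).trans (hψ x).symm⟩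

include h in
theorem existsUnique_ringHom {B : Type u} [CommRing B] [HenselianLocalRing B] (ψ : A →+* B) [IsLocalHom ψ]
    (α : ResidueField A' →+* ResidueField B)
    (hα : α.comp (ResidueField.map (algebraMap A A')) = ResidueField.map ψ) :
    ∃! ψ' : A' →+* B, IsLocalHom ψ' ∧ ψ'.comp (algebraMap A A') = ψ ∧
      ∀ x : A', residue B (ψ' x) = α (residue A' x) := by
  let : Algebra A B := ψ.toAlgebra
  have hloc : IsLocalHom (algebraMap A B) := ‹IsLocalHom ψ›
  obtain ⟨φ, hφ, huniq⟩ := existsUnique_algHom h (B := B) α fun a => by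
    have := congr($hα (residue A a))
    rwa [RingHom.comp_apply, ResidueField.map_residue, ResidueField.map_residue] at this
  refine ⟨φ.toRingHom, ⟨isLocalHom_algHom h φ, φ.comp_algebraMap, hφ⟩, fun g ⟨_, hg, hgr⟩ => ?_⟩
  have := huniq (AlgHom.mk g (fun a => congr($hg a))) hgr
  exact congrArg AlgHom.toRingHom this

include h in
theorem existsUnique_ringHom_of_bijective {B : Type u} [CommRing B] [HenselianLocalRing B] (ψ : A →+* B)
    [IsLocalHom ψ] (hb : Function.Bijective (ResidueField.map (algebraMap A A'))) :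
    ∃! ψ' : A' →+* B, IsLocalHom ψ' ∧ ψ'.comp (algebraMap A A') = ψ := by
  let e := RingEquiv.ofBijective _ hb
  let α := (ResidueField.map ψ).comp e.symm.toRingHom
  have hα : α.comp (ResidueField.map (algebraMap A A')) = ResidueField.map ψ :=
    RingHom.ext fun x => congrArg (ResidueField.map ψ) (e.symm_apply_apply x)
  obtain ⟨g, ⟨hg₁, hg₂, -⟩, -⟩ := existsUnique_ringHom h ψ α hα
  refine ⟨g, ⟨hg₁, hg₂⟩, fun g' ⟨_, hg'⟩ => ?_⟩
  let : Algebra A B := ψ.toAlgebra
  have hloc : IsLocalHom (algebraMap A B) := ‹IsLocalHom ψ›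
  have := subsingleton_algHom (T := B) h hb
  exact congrArg AlgHom.toRingHom (Subsingleton.elim (α := A' →ₐ[A] B)
    (AlgHom.mk g' (fun a => congr($hg' a))) (AlgHom.mk g (fun a => congr($hg₂ a))))

end

theorem exists_amalgam {A₁ A₂ : Type u} [CommRing A₁] [IsLocalRing A₁] [Algebra A A₁] [IsLocalHom (algebraMap A A₁)]
    [CommRing A₂] [IsLocalRing A₂] [Algebra A A₂] [IsLocalHom (algebraMap A A₂)]
    (h₁ : EGA4loc.IsStrictlyEssentiallyEtale A A₁) (h₂ : EGA4loc.IsStrictlyEssentiallyEtale A A₂) :
    ∃ (A₃ : Type u) (_ : CommRing A₃) (_ : IsLocalRing A₃) (_ : Algebra A A₃) (_ : IsLocalHom (algebraMap A A₃)),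
      EGA4loc.IsStrictlyEssentiallyEtale A A₃ ∧ Nonempty (A₁ →ₐ[A] A₃) ∧ Nonempty (A₂ →ₐ[A] A₃) := by
  obtain ⟨C₁, _, _, q₁, _, _, _, hC₁, -, hl₁⟩ := exists_presentation h₁.1
  obtain ⟨C₂, _, _, q₂, _, _, _, hC₂, -, hl₂⟩ := exists_presentation h₂.1
  let k := ResidueField A
  have mkπ : ∀ (A' C : Type u) [CommRing A'] [IsLocalRing A'] [Algebra A A'] [IsLocalHom (algebraMap A A')]
      [CommRing C] [Algebra A C] [Algebra C A'] [IsScalarTower A C A'],
      Function.Bijective (ResidueField.map (algebraMap A A')) →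
      ∃ π : C →ₐ[A] k, ∀ c, π c = 0 ↔ ¬ IsUnit (algebraMap C A' c) := by
    intro A' C _ _ _ _ _ _ _ _ hb
    let e := RingEquiv.ofBijective _ hb
    refine ⟨AlgHom.mk ((e.symm.toRingHom.comp (residue A')).comp (algebraMap C A')) (fun a => by
      show e.symm (residue A' (algebraMap C A' (algebraMap A C a))) = residue A a
      rw [← IsScalarTower.algebraMap_apply, RingEquiv.symm_apply_eq]
      exact (ResidueField.map_residue _ a).symm), fun c => ?_⟩
    show e.symm (residue A' (algebraMap C A' c)) = 0 ↔ _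
    rw [map_eq_zero_iff e.symm e.symm.injective, residue_eq_zero_iff]
    rfl
  obtain ⟨π₁, hπ₁⟩ := mkπ A₁ C₁ h₁.2
  obtain ⟨π₂, hπ₂⟩ := mkπ A₂ C₂ h₂.2
  let C := C₁ ⊗[A] C₂
  let π : C →ₐ[A] k := Algebra.TensorProduct.lift π₁ π₂ fun _ _ => .all _ _
  let q : Ideal C := RingHom.ker π
  have : Algebra.Etale A C := Algebra.Etale.comp A C₁ C
  have hqc : q.comap (algebraMap A C) = maximalIdeal A := by
    ext a
    show π (algebraMap A C a) = 0 ↔ _
    rw [AlgHom.commutes]
    exact residue_eq_zero_iff a
  have hqp : q.IsPrime := RingHom.ker_isPrime π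
  let L := Localization.AtPrime q
  have hLloc : IsLocalHom (algebraMap A L) := ⟨fun a ha => by
    by_contra hna
    rw [IsScalarTower.algebraMap_apply A C L, IsLocalization.AtPrime.isUnit_to_map_iff L q] at ha
    exact ha (show algebraMap A C a ∈ q by rw [← Ideal.mem_comap, hqc]; exact hna)⟩
  have hbij : Function.Bijective (ResidueField.map (algebraMap A L)) := by
    refine ⟨RingHom.injective _, fun z => ?_⟩
    obtain ⟨z, rfl⟩ := residue_surjective z
    obtain ⟨c, s, rfl⟩ := IsLocalization.exists_mk'_eq q.primeCompl z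
    obtain ⟨a, ha⟩ := residue_surjective (π c / π s)
    have hs : π (s : C) ≠ 0 := s.2
    refine ⟨residue A a, ?_⟩
    rw [ResidueField.map_residue, eq_comm, ← sub_eq_zero, ← map_sub, residue_eq_zero_iff]
    have hmem : c - algebraMap A C a * s ∈ q := by
      show π _ = 0
      rw [map_sub, map_mul, AlgHom.commutes, show algebraMap A k a = residue A a from rfl, ha,
        div_mul_cancel₀ _ hs, sub_self]
    have e : IsLocalization.mk' L c s - algebraMap A L a =
        algebraMap C L (c - algebraMap A C a * s) * IsLocalization.mk' L 1 s := by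
      rw [map_sub, map_mul, sub_mul, ← IsLocalization.mk'_eq_mul_mk'_one, mul_assoc,
        ← IsLocalization.mk'_eq_mul_mk'_one, IsLocalization.mk'_self, mul_one,
        ← IsScalarTower.algebraMap_apply A C L]
    rw [e]
    exact Ideal.mul_mem_right _ _ ((IsLocalization.AtPrime.to_map_mem_maximal_iff L q _).mpr hmem)
  refine ⟨L, inferInstance, inferInstance, inferInstance, hLloc,
    ⟨⟨C, inferInstance, inferInstance, q, hqp, inferInstance, hqc, ⟨AlgEquiv.refl⟩⟩, hbij⟩,
    ⟨IsLocalization.liftAlgHom (M := q₁.primeCompl)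
      (f := (IsScalarTower.toAlgHom A C L).comp Algebra.TensorProduct.includeLeft) fun y => ?_⟩,
    ⟨IsLocalization.liftAlgHom (M := q₂.primeCompl)
      (f := (IsScalarTower.toAlgHom A C L).comp Algebra.TensorProduct.includeRight) fun y => ?_⟩⟩
  · refine (IsLocalization.AtPrime.isUnit_to_map_iff L q _).mpr fun hy => ?_
    have : π (((y : C₁)) ⊗ₜ[A] (1 : C₂)) = 0 := hy
    rw [Algebra.TensorProduct.lift_tmul, map_one, mul_one, hπ₁] at this
    exact this (IsLocalization.map_units A₁ y)
  · refine (IsLocalization.AtPrime.isUnit_to_map_iff L q _).mpr fun hy => ?_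
    have : π ((1 : C₁) ⊗ₜ[A] ((y : C₂))) = 0 := hy
    rw [Algebra.TensorProduct.lift_tmul, map_one, one_mul, hπ₂] at this
    exact this (IsLocalization.map_units A₂ y)

end Groth.Agent.EtAlg7
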