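import Mathlib

/-!
# Finitely presented modules over (locally) chain rings are (summands of) sums of cyclic modules
-/

namespace Groth.Agent.EtAlg7

universe u v

variable {R : Type u} [CommRing R]

theorem exists_dvd_all (h : ∀ a b : R, a ∣ b ∨ b ∣ a) {ι : Type*} (s : Finset ι) (hs : s.Nonempty)
    (f : ι → R) : ∃ i ∈ s, ∀ j ∈ s, f i ∣ f j := by
  classical
  induction hs using Finset.Nonempty.cons_induction with
  | singleton a => exact ⟨a, by simp, by simp⟩
  | cons a s ha _ ih =>
    obtain ⟨i, hi, hall⟩ := ih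
    rcases h (f a) (f i) with hd | hd
    · refine ⟨a, by simp, fun j hj => ?_⟩
      rcases Finset.mem_cons.mp hj with rfl | hj
      · rfl
      · exact hd.trans (hall j hj)
    · refine ⟨i, Finset.mem_cons_of_mem hi, fun j hj => ?_⟩
      rcases Finset.mem_cons.mp hj with rfl | hj
      · exact hd
      · exact hall j hj

/-- Diagonalisation of a finitely generated submodule of `Rⁿ` over a ring with totally ordered
divisibility. -/
theorem exists_diag (h : ∀ a b : R, a ∣ b ∨ b ∣ a) :
    ∀ (n : ℕ) (K : Submodule R (Fin n → R)), K.FG → ∃ (f : Fin n → R)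
      (e : (Fin n → R) ≃ₗ[R] (Fin n → R)), ∀ v, v ∈ K ↔ ∀ i, f i ∣ e v i := by
  intro n
  induction n with
  | zero => exact fun K _ => ⟨0, LinearEquiv.refl _ _, fun v =>
      ⟨fun _ i => i.elim0, fun _ => Subsingleton.elim 0 v ▸ K.zero_mem⟩⟩
  | succ n ih =>
    intro K hK
    classical
    obtain ⟨s, hs⟩ := hK
    let s' : Finset ((Fin (n + 1) → R) × Fin (n + 1)) := insert 0 s ×ˢ Finset.univ
    obtain ⟨⟨v₀, j⟩, hv₀, hall⟩ := exists_dvd_all h s' ⟨(0, 0), by simp [s']⟩ (fun p => p.1 p.2)
    have hv₀K : v₀ ∈ K := by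
      rw [Finset.mem_product, Finset.mem_insert] at hv₀
      rcases hv₀.1 with rfl | hm
      · exact K.zero_mem
      · exact hs ▸ Submodule.subset_span hm
    let a := v₀ j
    have hKdvd : ∀ v ∈ K, ∀ i, a ∣ v i := by
      intro v hv
      rw [← hs] at hv
      induction hv using Submodule.span_induction with
      | mem x hx => exact fun i => hall (x, i) (by simp [s', Finset.mem_coe.mp hx])
      | zero => simp
      | add x y _ _ hx hy => exact fun i => dvd_add (hx i) (hy i)
      | smul c x _ hx => exact fun i => dvd_mul_of_dvd_right (hx i) c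
    choose c hc using fun i => hKdvd v₀ hv₀K i
    let w : Fin (n + 1) → R := Function.update c j 1
    have hwj : w j = 1 := Function.update_self _ _ _
    have hv₀w : v₀ = a • w := by
      funext i
      by_cases hi : i = j
      · subst hi; simp [hwj, a]
      · simp [w, Function.update_of_ne hi, hc i]
    let u : (Fin (n + 1) → R) →ₗ[R] (Fin n → R) :=
      { toFun := fun v i => v (j.succAbove i) - v j * w (j.succAbove i)
        map_add' := fun x y => by funext i; simp; ring
        map_smul' := fun r x => by funext i; simp; ring }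
    let ins : (Fin n → R) → (Fin (n + 1) → R) := fun x => j.insertNth 0 x
    have hsplit : ∀ v, v = v j • w + ins (u v) := by
      intro v; funext i
      refine Fin.succAboveCases j ?_ (fun i => ?_) i
      · simp [hwj, ins]
      · simp [u, ins]
    obtain ⟨f, e', he'⟩ := ih (K.map u) (Submodule.FG.map _ ⟨s, hs⟩)
    let e : (Fin (n + 1) → R) ≃ₗ[R] (Fin (n + 1) → R) :=
      { toFun := fun v => Fin.cons (v j) (e' (u v))
        map_add' := fun x y => by
          funext i
          cases i using Fin.cases <;> simp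
        map_smul' := fun r x => by
          funext i
          cases i using Fin.cases <;> simp
        invFun := fun x => x 0 • w + ins (e'.symm (Fin.tail x))
        left_inv := fun v => by
          simp only [Fin.cons_zero, Fin.tail_cons, LinearEquiv.symm_apply_apply]
          exact (hsplit v).symm
        right_inv := fun x => by
          have h1 : (x 0 • w + ins (e'.symm (Fin.tail x))) j = x 0 := by simp [hwj, ins]
          have h2 : u (x 0 • w + ins (e'.symm (Fin.tail x))) = e'.symm (Fin.tail x) := by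
            funext i; simp [u, hwj, ins]
          show Fin.cons _ _ = x
          dsimp only
          rw [h1, h2, LinearEquiv.apply_symm_apply, Fin.cons_self_tail] }
    refine ⟨Fin.cons a f, e, fun v => ?_⟩
    have hev : ∀ i, e v i = (Fin.cons (v j) (e' (u v)) : Fin (n + 1) → R) i := fun i => rfl
    constructor
    · intro hv i
      rw [hev]
      cases i using Fin.cases with
      | zero => simpa using hKdvd v hv j
      | succ i => simpa using (he' (u v)).mp (Submodule.mem_map_of_mem hv) i
    · intro hv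
      have h0 : a ∣ v j := by simpa [hev] using hv 0
      obtain ⟨k, hk, hku⟩ := Submodule.mem_map.mp ((he' (u v)).mpr fun i => by simpa [hev] using hv i.succ)
      have hjw : ∀ x : Fin (n + 1) → R, a ∣ x j → x j • w ∈ K := by
        intro x hx
        obtain ⟨t, ht⟩ := hx
        rw [ht, mul_comm, mul_smul, ← hv₀w]
        exact K.smul_mem t hv₀K
      rw [hsplit v, ← hku]
      refine K.add_mem (hjw v h0) ?_
      have := K.sub_mem hk (hjw k (hKdvd k hk j))
      nth_rw 1 [hsplit k] at this
      rwa [add_sub_cancel_left] at this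

theorem lsum_single' {S : Type*} [Semiring S] {ι : Type*} [Fintype ι] [DecidableEq ι] {φ : ι → Type*} [∀ i, AddCommMonoid (φ i)]
    [∀ i, Module R (φ i)] {M : Type*} [AddCommMonoid M] [Module R M] [Module S M] [SMulCommClass R S M]
    (f : ∀ i, φ i →ₗ[R] M) (i : ι) (x : φ i) :
    LinearMap.lsum R φ S f (Pi.single i x) = f i x := by
  rw [LinearMap.lsum_apply, LinearMap.sum_apply, Finset.sum_eq_single i] <;>
    simp +contextual [Pi.single_eq_of_ne]

/-- A finitely presented module over a ring with totally ordered divisibility is a finite direct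
sum of cyclic modules. -/
theorem exists_equiv_pi_cyclic (h : ∀ a b : R, a ∣ b ∨ b ∣ a) (M : Type v) [AddCommGroup M]
    [Module R M] [Module.FinitePresentation R M] :
    ∃ (n : ℕ) (f : Fin n → R), Nonempty (M ≃ₗ[R] ((i : Fin n) → R ⧸ Ideal.span {f i})) := by
  obtain ⟨n, K, e₀, hK⟩ := Module.FinitePresentation.exists_fin R M
  obtain ⟨f, e, he⟩ := exists_diag h n K hK
  let L : (Fin n → R) →ₗ[R] ((i : Fin n) → R ⧸ Ideal.span {f i}) :=
    (LinearMap.pi fun i => (Submodule.mkQ _).comp (LinearMap.proj i)).comp e.toLinearMap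
  have hL : Function.Surjective L := fun x => by
    choose r hr using fun i => Submodule.mkQ_surjective _ (x i)
    exact ⟨e.symm r, funext fun i => by simp [L, ← hr i]⟩
  have hker : LinearMap.ker L = K := by
    ext v
    simp [L, he, funext_iff, Ideal.Quotient.eq_zero_iff_mem, Ideal.mem_span_singleton]
  exact ⟨n, f, ⟨(e₀.trans (Submodule.quotEquivOfEq _ _ hker.symm)).trans
    (L.quotKerEquivOfSurjective hL)⟩⟩

/-- The locally split test: `s` is in this ideal iff `s • id` factors through `ψ`. -/
theorem exists_local_splitting (M : Type u) [AddCommGroup M] [Module R M] [Module.FinitePresentation R M]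
    (m : Ideal R) [m.IsMaximal] (h : ∀ a b : Localization.AtPrime m, a ∣ b ∨ b ∣ a) :
    ∃ (n : ℕ) (f : Fin n → R) (ψ : ((i : Fin n) → R ⧸ Ideal.span {f i}) →ₗ[R] M)
      (σ : M →ₗ[R] ((i : Fin n) → R ⧸ Ideal.span {f i})), ∃ s ∉ m, ψ ∘ₗ σ = s • LinearMap.id := by
  classical
  let Rm := Localization m.primeCompl
  let Mm := LocalizedModule m.primeCompl M
  have : Module.FinitePresentation Rm Mm := inferInstance
  obtain ⟨n, f', ⟨e⟩⟩ := exists_equiv_pi_cyclic (R := Rm) h Mm
  choose a s hs using fun i => IsLocalization.exists_mk'_eq m.primeCompl (f' i)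
  have hspan : ∀ i, algebraMap R Rm (a i) ∈ Ideal.span {f' i} := fun i => by
    rw [← IsLocalization.mk'_spec Rm (a i) (s i), hs]
    exact Ideal.mul_mem_right _ _ (Ideal.mem_span_singleton_self _)
  let x : Fin n → Mm := fun i => e.symm (Pi.single i 1)
  choose yt hyt using fun i => IsLocalizedModule.surj m.primeCompl (LocalizedModule.mkLinearMap m.primeCompl M) (x i)
  have hay : ∀ i, LocalizedModule.mkLinearMap m.primeCompl M (a i • (yt i).1) = 0 := fun i => by
    have hax : algebraMap R Rm (a i) • x i = 0 := by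
      rw [← map_smul, ← Pi.single_smul]
      have : algebraMap R Rm (a i) • (1 : Rm ⧸ Ideal.span {f' i}) = 0 := by
        show algebraMap R Rm (a i) • Ideal.Quotient.mk _ (1 : Rm) = 0
        rw [← Ideal.Quotient.mk_eq_mk, ← Submodule.Quotient.mk_smul, smul_eq_mul, mul_one]
        exact (Submodule.Quotient.mk_eq_zero _).mpr (hspan i)
      rw [this, Pi.single_zero, map_zero]
    rw [map_smul, ← hyt i, Submonoid.smul_def, smul_comm, ← algebraMap_smul Rm (a i) (x i), hax, smul_zero]
  choose w hw using fun i => (IsLocalizedModule.eq_zero_iff m.primeCompl _).mp (hay i)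
  let y : Fin n → M := fun i => (w i : R) • (yt i).1
  have hy : ∀ i, a i • y i = 0 := fun i => by
    rw [smul_comm, ← Submonoid.smul_def, hw]
  let P := (i : Fin n) → R ⧸ Ideal.span {a i}
  let ψ : P →ₗ[R] M := LinearMap.lsum R _ R fun i =>
    (Ideal.span {a i}).liftQ (LinearMap.toSpanSingleton R M (y i)) fun r hr => by
      obtain ⟨c, rfl⟩ := Ideal.mem_span_singleton'.mp hr
      simp [mul_smul, hy i]
  let ψm := LocalizedModule.map m.primeCompl ψ
  -- a section after localization
  have hu : ∀ i, IsUnit (algebraMap R Rm (w i * (yt i).2)) := fun i =>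
    IsLocalization.map_units Rm (w i * (yt i).2)
  let d : Fin n → Rm := fun i => ↑(hu i).unit⁻¹
  let one : (i : Fin n) → P := fun i => Pi.single i 1
  have ha1 : ∀ i, a i • one i = 0 := fun i => by
    show a i • (Pi.single (M := fun j => R ⧸ Ideal.span {a j}) i (1 : R ⧸ Ideal.span {a i})) = 0
    rw [← Pi.single_smul]
    convert Pi.single_zero i using 2
    show a i • Ideal.Quotient.mk _ (1 : R) = 0
    rw [← Ideal.Quotient.mk_eq_mk, ← Submodule.Quotient.mk_smul, smul_eq_mul, mul_one]
    exact (Submodule.Quotient.mk_eq_zero _).mpr (Ideal.mem_span_singleton_self _)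
  let g : ((i : Fin n) → Rm ⧸ Ideal.span {f' i}) →ₗ[Rm] LocalizedModule m.primeCompl P :=
    LinearMap.lsum Rm _ Rm fun i => (Ideal.span {f' i}).liftQ
      (LinearMap.toSpanSingleton Rm _ (d i • LocalizedModule.mkLinearMap m.primeCompl P (one i)))
      fun r hr => by
        obtain ⟨c, rfl⟩ := Ideal.mem_span_singleton'.mp hr
        have h0 : algebraMap R Rm (a i) • LocalizedModule.mkLinearMap m.primeCompl P (one i) = 0 := by
          rw [algebraMap_smul, ← map_smul, ha1, map_zero]
        rw [LinearMap.mem_ker, LinearMap.toSpanSingleton_apply, ← hs i,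
          IsLocalization.mk'_eq_mul_mk'_one, ← mul_smul,
          show c * (algebraMap R Rm (a i) * IsLocalization.mk' Rm 1 (s i)) * d i =
            c * IsLocalization.mk' Rm 1 (s i) * d i * algebraMap R Rm (a i) by ring, mul_smul, h0,
          smul_zero]
  have hg : ∀ z, ψm (g z) = e.symm z := by
    have : ψm ∘ₗ g = e.symm.toLinearMap := by
      refine LinearMap.pi_ext' fun i => Submodule.linearMap_qext _ (LinearMap.ext_ring ?_)
      show ψm (g (Pi.single i (Submodule.Quotient.mk (1 : Rm)))) = e.symm (Pi.single i (Submodule.Quotient.mk (1 : Rm)))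
      simp only [g, lsum_single', Submodule.liftQ_apply, LinearMap.toSpanSingleton_apply, one_smul, map_smul]
      rw [show ψm (LocalizedModule.mkLinearMap m.primeCompl P (one i)) =
        LocalizedModule.mkLinearMap m.primeCompl M (ψ (one i)) from IsLocalizedModule.map_LocalizedModules m.primeCompl ψ (one i) 1]
      have hψ1 : ψ (one i) = y i :=
        (lsum_single' (φ := fun j => R ⧸ Ideal.span {a j}) _ i _).trans (one_smul R (y i))
      rw [hψ1]
      show d i • LocalizedModule.mkLinearMap m.primeCompl M ((w i : R) • (yt i).1) = _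
      rw [map_smul, ← hyt i, Submonoid.smul_def, ← mul_smul, ← algebraMap_smul Rm ((w i : R) * ((yt i).2 : R)) (x i), ← mul_smul]
      show (d i * algebraMap R Rm (w i * (yt i).2)) • x i = _
      rw [IsUnit.val_inv_mul, one_smul]
      rfl
    exact fun z => congr($this z)
  let σloc : M →ₗ[R] LocalizedModule m.primeCompl P :=
    (g.restrictScalars R ∘ₗ e.toLinearMap.restrictScalars R) ∘ₗ LocalizedModule.mkLinearMap m.primeCompl M
  obtain ⟨σ, t, hσ⟩ := Module.FinitePresentation.exists_lift_of_isLocalizedModule m.primeCompl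
    (LocalizedModule.mkLinearMap m.primeCompl P) σloc
  have hcomp : LocalizedModule.mkLinearMap m.primeCompl M ∘ₗ (ψ ∘ₗ σ) =
      LocalizedModule.mkLinearMap m.primeCompl M ∘ₗ ((t : R) • LinearMap.id) := by
    ext z
    simp only [LinearMap.comp_apply, LinearMap.smul_apply, LinearMap.id_apply, map_smul]
    rw [show LocalizedModule.mkLinearMap m.primeCompl M (ψ (σ z)) =
      ψm (LocalizedModule.mkLinearMap m.primeCompl P (σ z)) from (IsLocalizedModule.map_LocalizedModules m.primeCompl ψ (σ z) 1).symm,
      show LocalizedModule.mkLinearMap m.primeCompl P (σ z) = (t : R) • σloc z from congr($hσ z)]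
    rw [LinearMap.map_smul_of_tower]
    congr 1
    exact (hg _).trans (e.symm_apply_apply _)
  obtain ⟨q, hq⟩ := Module.Finite.exists_smul_of_comp_eq_of_isLocalizedModule m.primeCompl
    (LocalizedModule.mkLinearMap m.primeCompl M) _ _ hcomp
  refine ⟨n, a, ψ, (q : R) • σ, q * t, m.primeCompl.mul_mem q.2 t.2, ?_⟩
  rw [LinearMap.comp_smul, mul_smul]
  exact hq

/-- A finitely presented module over a ring all of whose local rings have totally ordered
divisibility is a direct summand of a finite sum of cyclic modules. -/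
theorem exists_summand_pi_cyclic (h : ∀ (m : Ideal R) [m.IsMaximal], ∀ a b : Localization.AtPrime m, a ∣ b ∨ b ∣ a)
    (M : Type u) [AddCommGroup M] [Module R M] [Module.FinitePresentation R M] :
    ∃ (n : ℕ) (f : Fin n → R) (N : Type u) (_ : AddCommGroup N) (_ : Module R N),
      Nonempty ((M × N) ≃ₗ[R] ((i : Fin n) → R ⧸ Ideal.span {f i})) := by
  classical
  choose n f ψ σ s hs hψσ using fun m : MaximalSpectrum R =>
    exists_local_splitting M m.asIdeal (h m.asIdeal)
  have htop : Ideal.span (Set.range s) = ⊤ := by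
    by_contra hne
    obtain ⟨m, hm, hle⟩ := Ideal.exists_le_maximal _ hne
    exact hs ⟨m, hm⟩ (hle (Ideal.subset_span ⟨⟨m, hm⟩, rfl⟩))
  obtain ⟨c, hc⟩ := (Ideal.span (Set.range s)).eq_top_iff_one.mp htop |> Finsupp.mem_span_range_iff_exists_finsupp.mp
  let T := c.support
  let ι := Σ m : T, Fin (n m.1)
  let ε := (Fintype.equivFin ι).symm
  let P := (i : Fin (Fintype.card ι)) → R ⧸ Ideal.span {f (ε i).1.1 (ε i).2}
  let P' := (i : ι) → R ⧸ Ideal.span {f i.1.1 i.2}
  let Θ : P' ≃ₗ[R] P := LinearEquiv.piCongrLeft' R _ ε.symm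
  let pr : (m : T) → P' →ₗ[R] ((k : Fin (n m.1)) → R ⧸ Ideal.span {f m.1 k}) := fun m =>
    LinearMap.pi fun k => LinearMap.proj (⟨m, k⟩ : ι)
  let Ψ : P' →ₗ[R] M := ∑ m : T, ψ m.1 ∘ₗ pr m
  let S : M →ₗ[R] P' := LinearMap.pi fun i => c i.1.1 • (LinearMap.proj i.2 ∘ₗ σ i.1.1)
  have hΨS : Ψ ∘ₗ S = LinearMap.id := by
    ext z
    have : ∀ m : T, pr m (S z) = c m.1 • σ m.1 z := fun m => funext fun k => rfl
    simp only [Ψ, LinearMap.comp_apply, LinearMap.sum_apply, this, map_smul, LinearMap.id_apply]
    rw [show (∑ m : T, c m.1 • ψ m.1 (σ m.1 z)) = ∑ m : T, (c m.1 * s m.1) • z from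
      Finset.sum_congr rfl fun m _ => by
        rw [show ψ m.1 (σ m.1 z) = s m.1 • z from congr($(hψσ m.1) z), mul_smul],
      ← Finset.sum_smul, Finset.sum_coe_sort T fun m => c m * s m]
    rw [show ∑ m ∈ T, c m * s m = 1 from hc, one_smul]
  refine ⟨_, fun i => f (ε i).1.1 (ε i).2, LinearMap.ker Ψ, inferInstance, inferInstance, ⟨?_⟩⟩
  refine (show (M × LinearMap.ker Ψ) ≃ₗ[R] P' from ?_).trans Θ
  let F : (M × LinearMap.ker Ψ) →ₗ[R] P' := LinearMap.coprod S (LinearMap.ker Ψ).subtype
  let G : P' →ₗ[R] (M × LinearMap.ker Ψ) := LinearMap.prod Ψ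
    (LinearMap.codRestrict (LinearMap.ker Ψ) (LinearMap.id - S ∘ₗ Ψ) fun v => by
      simp [show Ψ (S (Ψ v)) = Ψ v from congr($hΨS (Ψ v))])
  exact LinearEquiv.ofLinear F G (LinearMap.ext fun v => by simp [F, G])
    (LinearMap.ext fun p => by
      obtain ⟨z, k, hk⟩ := p
      have h1 : Ψ (S z) = z := congr($hΨS z)
      have h2 : Ψ k = 0 := hk
      ext <;> simp [F, G, h1, h2])

end Groth.Agent.EtAlg7
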